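import Groth.Agent.H06EGA12.GeomRkOpen
import Groth.Agent.H06EGA14.EquidimStalk
import Groth.Agent.H4Depth.EquidimS2
import Groth.Agent.H4Depth.SkFree
import Groth.Agent.H8Props.UnivCatenary
import Groth.Agent.H28Top.Noeth
import Groth.Prelude.Def_RelCanon
import Groth.Prelude.Def_Cyc

/-!
# Openness of `S_k` morphisms of pure relative dimension with codimension bounds
-/

set_option autoImplicit false
set_option linter.style.haveILetI false
set_option backward.isDefEq.respectTransparency false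
set_option maxSynthPendingDepth 4

universe u

open CategoryTheory CategoryTheory.Limits AlgebraicGeometry TopologicalSpace Topology

namespace Groth.Agent.H4SkOpen

open H8Props.FieldDim

theorem isCatenary_stalk_of_field {k : Type u} [Field k] {Z : Scheme.{u}} (g : Z ⟶ Spec (CommRingCat.of k))
    [LocallyOfFiniteType g] (z : Z) : CAlg.IsCatenary (Z.presheaf.stalk z) := by
  have hu : ∀ s : Spec (CommRingCat.of k), CAlg.IsUniversallyCatenary ((Spec (CommRingCat.of k)).presheaf.stalk s) := by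
    intro s
    haveI : Subsingleton (PrimeSpectrum k) := inferInstance
    have hs : s.asIdeal.primeCompl ≤ IsUnit.submonoid k := fun x hx =>
      isUnit_iff_ne_zero.2 fun h0 => hx (h0 ▸ s.asIdeal.zero_mem)
    have hf0 : IsField (Localization.AtPrime s.asIdeal) :=
      (IsLocalization.atUnits k s.asIdeal.primeCompl hs).toMulEquiv.symm.isField (Field.toIsField k)
    have hf : IsField ((Spec (CommRingCat.of k)).presheaf.stalk s) :=
      (StructureSheaf.stalkIso k s).symm.toMulEquiv.isField hf0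
    haveI : IsAdicComplete (IsLocalRing.maximalIdeal ((Spec (CommRingCat.of k)).presheaf.stalk s))
        ((Spec (CommRingCat.of k)).presheaf.stalk s) := by
      rw [IsLocalRing.isField_iff_maximalIdeal_eq.mp hf]
      infer_instance
    exact H05EGA4.isUniversallyCatenary_of_isAdicComplete _
  exact (H8Props.CatenaryBridge.isCatenarySpace_iff_stalks.mp
    (H8Props.UnivCatenary.isCatenarySpace_of_stalks hu Z g ‹_›)) z

/-- The stalks of the fibres of an open subscheme. -/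
theorem exists_fibre_stalk_equiv {X Y : Scheme.{u}} (f : X ⟶ Y) (U : X.Opens) (z : U.toScheme) :
    Nonempty ((f.fiber (f (U.ι z))).presheaf.stalk (f.asFiber (U.ι z)) ≃+*
      ((U.ι ≫ f).fiber ((U.ι ≫ f) z)).presheaf.stalk ((U.ι ≫ f).asFiber z)) := by
  let s := (U.ι ≫ f) z
  let j : (U.ι ≫ f).fiber s ⟶ f.fiber s :=
    pullback.lift ((U.ι ≫ f).fiberι s ≫ U.ι) ((U.ι ≫ f).fiberToSpecResidueField s)
      (by rw [Category.assoc]; exact pullback.condition)
  have hsq : IsPullback ((U.ι ≫ f).fiberι s) j U.ι (f.fiberι s) :=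
    IsPullback.of_bot (v₂₁ := f.fiberToSpecResidueField s) (v₂₂ := f) (h₃₁ := Y.fromSpecResidueField s)
      (by rw [show j ≫ f.fiberToSpecResidueField s = (U.ι ≫ f).fiberToSpecResidueField s from pullback.lift_snd _ _ _]; exact IsPullback.of_hasPullback _ _) (pullback.lift_fst _ _ _).symm
      (IsPullback.of_hasPullback _ _)
  haveI : IsOpenImmersion j := MorphismProperty.of_isPullback (P := @IsOpenImmersion) hsq inferInstance
  have hj : j ((U.ι ≫ f).asFiber z) = f.asFiber (U.ι z) := by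
    apply (f.fiberι s).isEmbedding.injective
    refine Eq.trans ?_ (f.fiberι_asFiber (U.ι z)).symm
    refine (congrArg (fun φ : (U.ι ≫ f).fiber s ⟶ X => φ ((U.ι ≫ f).asFiber z))
      (show j ≫ f.fiberι s = (U.ι ≫ f).fiberι s ≫ U.ι from pullback.lift_fst _ _ _)).trans ?_
    exact congrArg U.ι ((U.ι ≫ f).fiberι_asFiber z)
  exact ⟨((f.fiber s).presheaf.stalkCongr (.of_eq hj.symm) ≪≫ asIso (j.stalkMap _)).commRingCatIsoToRingEquiv⟩

variable {Y T : Scheme.{u}} (f : Y ⟶ T)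

/-- Points with `(S_k)` and equidimensional fibre stalk. -/
def skLocus (k : ℕ) : Set Y :=
  {x | H06EGA12.OnFibre f (Coh.structureModule Y)
    (fun A _ _ M _ _ => EGA4.IsEquidimModule A M ∧ LocCoh.HasSk k A M) (f.asFiber x)}

theorem isOpen_skLocus [Flat f] [LocallyOfFinitePresentation f] (k : ℕ) (hk : 1 ≤ k) : IsOpen (skLocus f k) :=
  H06EGA12.isOpen_setOf_onFibre f _ H06EGA9.isFP_structureModule (H06EGA12.isFlatOver_structureModule f)
    (H06EGA12.semilinearInvariant_equidim k) (H06EGA12.affineOpen_equidim k hk)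

theorem mem_skLocus_iff (k : ℕ) (x : Y) : x ∈ skLocus f k ↔
    EGA4.IsEquidimModule ((f.fiber (f x)).presheaf.stalk (f.asFiber x)) ((f.fiber (f x)).presheaf.stalk (f.asFiber x)) ∧
    RelCanon.SkAt k (Coh.structureModule (f.fiber (f x))) (f.asFiber x) := by
  refine (H06EGA12.onFibre_structureModule_iff f (H06EGA12.semilinearInvariant_equidim k) (f.asFiber x)).trans
    (and_congr_right fun _ => ?_)
  let e := LinearEquiv.ofBijective (LinearMap.toSpanSingleton ((f.fiber (f x)).presheaf.stalk (f.asFiber x)) _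
      (H06EGA9.oneStalk (f.asFiber x))) (H06EGA9.bijective_smul_oneStalk (f.asFiber x))
  exact (H06EGA12.semilinearInvariant_hasSk k (RingHom.id _) Function.surjective_id e.toAddEquiv
    (fun a m => e.map_smul a m)).symm

theorem mem_skLocus_of_skAt [Flat f] [LocallyOfFiniteType f] (k : ℕ) (hk : 2 ≤ k) (x : Y)
    (h : RelCanon.SkAt k (Coh.structureModule (f.fiber (f x))) (f.asFiber x)) : x ∈ skLocus f k := by
  haveI := locallyOfFiniteType_fiberToSpec f (f x)
  haveI : IsLocallyNoetherian (f.fiber (f x)) :=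
    LocallyOfFiniteType.isLocallyNoetherian (f.fiberToSpecResidueField (f x))
  let e := LinearEquiv.ofBijective (LinearMap.toSpanSingleton ((f.fiber (f x)).presheaf.stalk (f.asFiber x)) _
      (H06EGA9.oneStalk (f.asFiber x))) (H06EGA9.bijective_smul_oneStalk (f.asFiber x))
  have hS := ((H06EGA12.semilinearInvariant_hasSk k (RingHom.id _) Function.surjective_id e.toAddEquiv
    (fun a m => e.map_smul a m)).1 h)
  refine (mem_skLocus_iff f k x).2 ⟨?_, h⟩
  refine (H06EGA12.isEquidim_iff_isEquidimModule _).1 fun p hp => ?_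
  exact H4Depth.ringKrullDim_quotient_minimalPrime
    (isCatenary_stalk_of_field (k := T.residueField (f x)) (f.fiberToSpecResidueField (f x)) _)
    (H4Depth.two_le_depth_of_hasSk (H4Depth.hasSk_mono hk hS)) p hp

theorem mem_equiLocus_of_mem_skLocus (k : ℕ) (hk : 1 ≤ k) {x : Y} (h : x ∈ skLocus f k) :
    x ∈ H06EGA12.equiLocus f :=
  ⟨h.1, H4Depth.hasSk_mono hk h.2⟩

/-- The fibre dimension is constant near a point of the locus. -/
theorem exists_nhd_fibreDimAt_eq [IsLocallyNoetherian Y] [Flat f] [LocallyOfFinitePresentation f] (k : ℕ)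
    (hk : 1 ≤ k) {y : Y} (hy : y ∈ skLocus f k) {e : ℕ} (he : FlatMor.fibreDimAt f y = (e : WithBot ℕ∞)) :
    ∃ U : Y.Opens, y ∈ U ∧ (U : Set Y) ⊆ skLocus f k ∧ ∀ x ∈ U, FlatMor.fibreDimAt f x = (e : WithBot ℕ∞) := by
  obtain ⟨V, hV, hyV, -⟩ := exists_isAffineOpen_mem_and_subset (x := y) (U := ⊤) trivial
  haveI : IsNoetherianRing Γ(Y, V) := IsLocallyNoetherian.component_noetherian ⟨V, hV⟩
  haveI : IsAffine V.toScheme := hV
  haveI : IsNoetherian V.toScheme := by
    haveI : IsLocallyNoetherian V.toScheme := isLocallyNoetherian_of_isOpenImmersion V.ι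
    exact {}
  let E : Set Y := {x | x ∈ skLocus f k ∧ FlatMor.fibreDimAt f x = (e : WithBot ℕ∞)}
  have hgen : StableUnderGeneralization E := fun x η hηx hx => by
    refine ⟨hηx.mem_open (isOpen_skLocus f k hk) hx.1, le_antisymm ?_ ?_⟩
    · exact (hηx.mem_open (H7Flat.isOpen_fibreDimAt_le' f _) (show x ∈ {z | FlatMor.fibreDimAt f z ≤ (e : WithBot ℕ∞)} from hx.2.le))
    · exact hx.2 ▸ H06EGA12.fibreDimAt_le_of_specializes f (mem_equiLocus_of_mem_skLocus f k hk hx.1) hηx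
  let S : WithBot ℕ∞ → Set V.toScheme := fun d => V.ι ⁻¹' {x | FlatMor.fibreDimAt f x ≤ d}
  have hopen : ∀ W : Set V.toScheme, IsOpen W → IsConstructible W := fun W hW =>
    (show IsRetrocompact W from fun _ _ _ => NoetherianSpace.isCompact _).isConstructible hW
  have hE : IsConstructible (V.ι ⁻¹' E) := by
    rcases e with _ | n
    · have : V.ι ⁻¹' E = V.ι ⁻¹' skLocus f k ∩ S ((0 : ℕ) : WithBot ℕ∞) := by
        ext x
        refine ⟨fun h => ⟨h.1, h.2.le⟩, fun h => ⟨h.1, ?_⟩⟩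
        obtain ⟨d, hd⟩ := H06EGA12.exists_fibreDimAt_eq f (V.ι x)
        have h2 : (d : WithBot ℕ∞) ≤ ((0 : ℕ) : WithBot ℕ∞) := hd ▸ h.2
        rw [hd, Nat.le_zero.1 (Nat.cast_le.1 h2)]
      rw [this]
      exact (hopen _ ((isOpen_skLocus f k hk).preimage V.ι.continuous)).inter
        (hopen _ ((H7Flat.isOpen_fibreDimAt_le' f _).preimage V.ι.continuous))
    · have : V.ι ⁻¹' E = (V.ι ⁻¹' skLocus f k ∩ S ((n + 1 : ℕ) : WithBot ℕ∞)) \ S ((n : ℕ) : WithBot ℕ∞) := by
        ext x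
        obtain ⟨d, hd⟩ := H06EGA12.exists_fibreDimAt_eq f (V.ι x)
        refine ⟨fun h => ⟨⟨h.1, h.2.le⟩, fun hn => ?_⟩, fun h => ⟨h.1.1, ?_⟩⟩
        · have h2 : ((n + 1 : ℕ) : WithBot ℕ∞) ≤ ((n : ℕ) : WithBot ℕ∞) := h.2 ▸ hn
          exact absurd (Nat.cast_le.1 h2) (by omega)
        · have h1 : (d : WithBot ℕ∞) ≤ ((n + 1 : ℕ) : WithBot ℕ∞) := hd ▸ h.1.2
          have h2 : ¬ (d : WithBot ℕ∞) ≤ ((n : ℕ) : WithBot ℕ∞) := fun hle => h.2 (show FlatMor.fibreDimAt f (V.ι x) ≤ _ from hd ▸ hle)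
          rw [Nat.cast_le] at h1 h2
          rw [hd, show d = n + 1 by omega]
      rw [this]
      exact ((hopen _ ((isOpen_skLocus f k hk).preimage V.ι.continuous)).inter
        (hopen _ ((H7Flat.isOpen_fibreDimAt_le' f _).preimage V.ι.continuous))).sdiff
        (hopen _ ((H7Flat.isOpen_fibreDimAt_le' f _).preimage V.ι.continuous))
  have hgen' : StableUnderGeneralization (V.ι ⁻¹' E) := fun a b h ha => hgen (h.map V.ι.continuous) ha
  have ho := V.ι.isOpenEmbedding.isOpenMap _ (H28Top.isOpen_of_stableUnderGeneralization hE hgen')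
  refine ⟨⟨_, ho⟩, ⟨⟨y, hyV⟩, ⟨hy, he⟩, rfl⟩, ?_, ?_⟩
  · rintro _ ⟨x, hx, rfl⟩; exact hx.1
  · rintro _ ⟨x, hx, rfl⟩; exact hx.2

/-- The neighbourhood where a codimension bound in the fibres persists. -/
theorem exists_nhd_codim [LocallyOfFiniteType f] (Yo : Y.Opens) {y : Y} (hyo : y ∉ Yo) {e : ℕ}
    (U : Y.Opens) (hyU : y ∈ U) (hU : ∀ x ∈ U, FlatMor.fibreDimAt f x = (e : WithBot ℕ∞)) (c : WithBot ℕ∞)
    (hc : ∀ z : Y, f z = f y → z ∉ Yo → z ⤳ y → c ≤ ringKrullDim ((f.fiber (f z)).presheaf.stalk (f.asFiber z))) :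
    ∃ W : Y.Opens, y ∈ W ∧ W ≤ U ∧
      ∀ z ∈ W, z ∉ Yo → c ≤ ringKrullDim ((f.fiber (f z)).presheaf.stalk (f.asFiber z)) := by
  let Z : Closeds Y := ⟨(Yo : Set Y)ᶜ, Yo.isOpen.isClosed_compl⟩
  let i := (Scheme.IdealSheafData.vanishingIdeal Z).subschemeι
  have hrange : Set.range i = (Yo : Set Y)ᶜ := (Scheme.IdealSheafData.range_subschemeι _).trans rfl
  obtain ⟨y₀, hy₀⟩ : y ∈ Set.range i := hrange.ge hyo
  have hdim : ∀ z ∈ U, (e : WithBot ℕ∞) =
      ringKrullDim ((f.fiber (f z)).presheaf.stalk (f.asFiber z)) + cdim (f.asFiber z) := fun z hz => by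
    haveI := locallyOfFiniteType_fiberToSpec f (f z)
    rw [← hU z hz]
    exact localDim_eq_stalk_add_cdim (k := T.residueField (f z)) (f.fiberToSpecResidueField (f z)) (f.asFiber z)
  obtain ⟨ξ, hξy, hfξ, -, hξd⟩ := H06EGA14.exists_maximal_generization (i ≫ f) y₀
  obtain ⟨m, hm⟩ := H06EGA12.exists_fibreDimAt_eq (i ≫ f) y₀
  rw [hm, H06EGA14.cdim_asFiber_comp_closedImmersion] at hξd
  have hξy' : i ξ ⤳ y := hy₀ ▸ hξy.map i.continuous
  have hfξ' : f (i ξ) = f y := by rw [← hy₀, ← Scheme.Hom.comp_apply, hfξ, Scheme.Hom.comp_apply]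
  have hcm := hc (i ξ) hfξ' (hrange.le ⟨ξ, rfl⟩) hξy'
  have hem := hdim (i ξ) (hξy'.mem_open U.isOpen hyU)
  rw [hξd] at hem
  let B : Set Y := i '' {w | FlatMor.fibreDimAt (i ≫ f) w ≤ (m : WithBot ℕ∞)}ᶜ
  have hB : IsClosed B := i.isClosedEmbedding.isClosedMap _ (H7Flat.isOpen_fibreDimAt_le' (i ≫ f) _).isClosed_compl
  refine ⟨U ⊓ ⟨Bᶜ, hB.isOpen_compl⟩, ⟨hyU, ?_⟩, inf_le_left, fun z hz hzo => ?_⟩
  · rintro ⟨w, hw, hwy⟩
    rw [← hy₀] at hwy
    exact hw ((i.isClosedEmbedding.injective hwy) ▸ hm.le)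
  obtain ⟨w, hw⟩ : z ∈ Set.range i := hrange.ge hzo
  subst hw
  have hwm : FlatMor.fibreDimAt (i ≫ f) w ≤ (m : WithBot ℕ∞) := by
    by_contra hne
    exact hz.2 ⟨w, hne, rfl⟩
  have hcd : cdim (f.asFiber (i w)) ≤ (m : WithBot ℕ∞) := by
    rw [← H06EGA14.cdim_asFiber_comp_closedImmersion]
    exact (H06Equidim.cdim_asFiber_le_fibreDimAt (i ≫ f) w).trans hwm
  refine hcm.trans ?_
  have h1 := (hem.symm.trans (hdim (i w) hz.1))
  obtain ⟨t, ht, -⟩ := H06Equidim.exists_trdeg_asFiber f (i w)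
  rw [ht] at h1 hcd
  rw [Nat.cast_le] at hcd
  haveI := locallyOfFiniteType_fiberToSpec f (f (i w))
  haveI := locallyOfFiniteType_fiberToSpec f (f (i ξ))
  haveI : IsLocallyNoetherian (f.fiber (f (i w))) :=
    LocallyOfFiniteType.isLocallyNoetherian (f.fiberToSpecResidueField (f (i w)))
  haveI : IsLocallyNoetherian (f.fiber (f (i ξ))) :=
    LocallyOfFiniteType.isLocallyNoetherian (f.fiberToSpecResidueField (f (i ξ)))
  obtain ⟨b, hb⟩ := H22Alg.exists_nat_ringKrullDim' ((f.fiber (f (i w))).presheaf.stalk (f.asFiber (i w)))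
  obtain ⟨a, ha⟩ := H22Alg.exists_nat_ringKrullDim' ((f.fiber (f (i ξ))).presheaf.stalk (f.asFiber (i ξ)))
  rw [ha, hb] at h1
  rw [ha, hb, Nat.cast_le]
  have h2 : a + m = b + t := by exact_mod_cast h1
  omega

/-- Serre's condition on the fibres of an open subscheme. -/
theorem skAt_opens {X Y : Scheme.{u}} (f : X ⟶ Y) (U : X.Opens) (k : ℕ) (z : U.toScheme)
    (h : RelCanon.SkAt k (Coh.structureModule (f.fiber (f (U.ι z)))) (f.asFiber (U.ι z))) :
    RelCanon.SkAt k (Coh.structureModule ((U.ι ≫ f).fiber ((U.ι ≫ f) z))) ((U.ι ≫ f).asFiber z) := by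
  obtain ⟨e⟩ := exists_fibre_stalk_equiv f U z
  let a := f.asFiber (U.ι z)
  let b := (U.ι ≫ f).asFiber z
  let ea := LinearEquiv.ofBijective (LinearMap.toSpanSingleton ((f.fiber (f (U.ι z))).presheaf.stalk a) _
      (H06EGA9.oneStalk a)) (H06EGA9.bijective_smul_oneStalk a)
  let eb := LinearEquiv.ofBijective (LinearMap.toSpanSingleton (((U.ι ≫ f).fiber ((U.ι ≫ f) z)).presheaf.stalk b) _
      (H06EGA9.oneStalk b)) (H06EGA9.bijective_smul_oneStalk b)
  exact (H06EGA12.semilinearInvariant_hasSk k e.toRingHom e.surjective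
    ((ea.symm.toAddEquiv.trans e.toAddEquiv).trans eb.toAddEquiv)
    (fun r m => by
      show eb (e (ea.symm (r • m))) = e r • eb (e (ea.symm m))
      rw [map_smul, smul_eq_mul, map_mul, ← smul_eq_mul, map_smul])).2 h

end Groth.Agent.H4SkOpen
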